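import Mathlib
import Groth.Prelude.Def_W4c2invhilbsl2HJ

/-!
Number theory of the Hirzebruch–Jung data of `W4c2invhilbsl2`.
-/

namespace H25InvHilb

open W4c2invhilbsl2

variable {p q m : ℕ}

lemma gcdK_pos (hm : 0 < m) : 0 < gcdK p q m :=
  Nat.gcd_pos_of_pos_left _ hm

lemma gcdK_mul_bB : gcdK p q m * bB p q m = q - p :=
  Nat.mul_div_cancel' (Nat.gcd_dvd_right _ _)

lemma gcdK_mul_bB_int (hpq : p < q) :
    (gcdK p q m : ℤ) * (bB p q m : ℤ) = (q : ℤ) - p := by
  rw [← Nat.cast_mul, gcdK_mul_bB, Nat.cast_sub hpq.le]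

lemma gcdK_dvd_sub_mod : gcdK p q m ∣ q - p - m * p % (q - p) :=
  Nat.dvd_sub (Nat.gcd_dvd_right _ _)
    ((Nat.dvd_mod_iff (Nat.gcd_dvd_right _ _)).mpr ((Nat.gcd_dvd_left _ _).mul_right p))

lemma pm_eq (hpq : p < q) :
    (p : ℤ) * m = ((alpha p q m + 1 : ℕ) : ℤ) * ((gcdK p q m : ℤ) * bB p q m) -
      (gcdK p q m : ℤ) * tT p q m := by
  have h1 : gcdK p q m * tT p q m = q - p - m * p % (q - p) :=
    Nat.mul_div_cancel' gcdK_dvd_sub_mod
  have h2 : m * p % (q - p) ≤ q - p := (Nat.mod_lt _ (by omega)).le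
  have h3 := Nat.div_add_mod (m * p) (q - p)
  have h4 := gcdK_mul_bB (p := p) (q := q) (m := m)
  have h1' : (gcdK p q m : ℤ) * tT p q m = ((q - p : ℕ) : ℤ) - (m * p % (q - p) : ℕ) := by
    rw [← Nat.cast_mul, h1, Nat.cast_sub h2]
  have h3' : ((q - p : ℕ) : ℤ) * (alpha p q m : ℤ) + (m * p % (q - p) : ℕ) = (m : ℤ) * p := by
    exact_mod_cast h3
  have h4' : (gcdK p q m : ℤ) * bB p q m = ((q - p : ℕ) : ℤ) := by exact_mod_cast h4
  rw [h4', h1']
  generalize m * p % (q - p) = β at h3' ⊢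
  push_cast
  linear_combination (-1 : ℤ) * h3'

lemma two_le_bB (hpq : p < q) (hnt : ¬ (q - p ∣ m)) : 2 ≤ bB p q m := by
  by_contra h
  have h4 := gcdK_mul_bB (p := p) (q := q) (m := m)
  have h5 : bB p q m = 0 ∨ bB p q m = 1 := by omega
  rcases h5 with h5 | h5 <;> rw [h5] at h4
  · simp at h4; omega
  · exact hnt (by rw [← h4, mul_one]; exact Nat.gcd_dvd_left _ _)

lemma coprime_tT_bB (hpq : p < q) (hcop : Nat.Coprime p q) (hm : 0 < m) :
    IsCoprime (tT p q m : ℤ) (bB p q m : ℤ) := by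
  have hg := gcdK_pos (p := p) (q := q) hm
  obtain ⟨k, hk⟩ : gcdK p q m ∣ m := Nat.gcd_dvd_left _ _
  have h1 : Nat.Coprime k (bB p q m) := by
    have := Nat.coprime_div_gcd_div_gcd (m := m) (n := q - p) hg
    have hk' : m / gcdK p q m = k := Nat.div_eq_of_eq_mul_right hg hk
    rw [← hk']; exact this
  have h2 : Nat.Coprime p (bB p q m) := by
    have hpd : Nat.Coprime p (q - p) := (Nat.coprime_sub_self_right hpq.le).mpr hcop
    exact hpd.coprime_dvd_right ⟨gcdK p q m, by rw [mul_comm, gcdK_mul_bB]⟩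
  have h3 : Nat.Coprime (p * k) (bB p q m) := h2.mul_left h1
  have e : (tT p q m : ℤ) = -((p * k : ℕ) : ℤ) +
      ((alpha p q m + 1 : ℕ) : ℤ) * (bB p q m : ℤ) := by
    have h := pm_eq (m := m) hpq
    have hk' : (m : ℤ) = (gcdK p q m : ℤ) * k := by exact_mod_cast hk
    rw [hk'] at h
    refine mul_left_cancel₀ (b := (tT p q m : ℤ))
      (Nat.cast_ne_zero.mpr hg.ne' : (gcdK p q m : ℤ) ≠ 0) ?_
    push_cast at h ⊢
    linear_combination h
  rw [e]
  exact IsCoprime.add_mul_right_left (Nat.isCoprime_iff_coprime.mpr h3).neg_left _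

/-- `νᵢ = t Pᵢ - b Qᵢ`. -/
def nu (p q m : ℕ) (c : List ℤ) (i : ℕ) : ℤ :=
  (tT p q m : ℤ) * hjP c i - (bB p q m : ℤ) * hjQ c i

lemma nu_zero (c : List ℤ) : nu p q m c 0 = bB p q m := by simp [nu, hjP, hjQ]

lemma nu_one (c : List ℤ) : nu p q m c 1 = tT p q m := by simp [nu, hjP, hjQ]

lemma nu_add_two (c : List ℤ) (i : ℕ) :
    nu p q m c (i + 2) = c.getD i 0 * nu p q m c (i + 1) - nu p q m c i := by
  simp only [nu, hjP, hjQ]; ring

lemma nN_eq (hpq : p < q) (c : List ℤ) (i : ℕ) :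
    nN p q m c i = (gcdK p q m : ℤ) * nu p q m c i := by
  have h := pm_eq (m := m) hpq
  have h2 := gcdK_mul_bB_int (m := m) hpq
  simp only [nN, eE, lL, nu]
  push_cast at h ⊢
  linear_combination (-(hjP c i)) * h -
    (((alpha p q m : ℤ) + 1) * hjP c i - hjQ c i) * h2

lemma hjP_hjQ_det (c : List ℤ) (i : ℕ) :
    hjP c (i + 1) * hjQ c i - hjP c i * hjQ c (i + 1) = -1 := by
  induction i with
  | zero => simp [hjP, hjQ]
  | succ i ih =>
    show hjP c (i + 2) * hjQ c (i + 1) - hjP c (i + 1) * hjQ c (i + 2) = -1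
    simp only [hjP, hjQ]
    linear_combination ih

lemma one_lt_hjVal : ∀ (l : List ℤ), l ≠ [] → (∀ x ∈ l, (2 : ℤ) ≤ x) → 1 < HJFrac.hjVal l
  | [], h, _ => absurd rfl h
  | [a], _, h2 => by
    have ha : (2 : ℤ) ≤ a := h2 a (by simp)
    have : (2 : ℚ) ≤ a := by exact_mod_cast ha
    simp only [HJFrac.hjVal, inv_zero, sub_zero]
    linarith
  | a :: b :: l, _, h2 => by
    have ha : (2 : ℤ) ≤ a := h2 a (by simp)
    have ha' : (2 : ℚ) ≤ a := by exact_mod_cast ha
    have h := one_lt_hjVal (b :: l) (by simp) (fun x hx => h2 x (List.mem_cons_of_mem _ hx))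
    have hi : (HJFrac.hjVal (b :: l))⁻¹ < 1 := inv_lt_one_of_one_lt₀ h
    show 1 < (a : ℚ) - (HJFrac.hjVal (b :: l))⁻¹
    linarith

variable {c : List ℤ}

lemma two_le_getD (hc : ∀ x ∈ c, (2 : ℤ) ≤ x) {i : ℕ} (hi : i < c.length) : 2 ≤ c.getD i 0 := by
  rw [← List.getElem_eq_getD (h := hi)]
  exact hc _ (List.getElem_mem hi)

lemma hjP_nonneg_lt (hc : IsHJDigits p q m c) :
    ∀ i, i ≤ c.length → 0 ≤ hjP c i ∧ hjP c i < hjP c (i + 1) := by
  intro i
  induction i with
  | zero => intro _; simp [hjP]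
  | succ i ih =>
    intro hi
    obtain ⟨h1, h2⟩ := ih (by omega)
    have h3 := two_le_getD hc.1 (show i < c.length by omega)
    refine ⟨by omega, ?_⟩
    show hjP c (i + 1) < hjP c (i + 2)
    simp only [hjP]
    nlinarith

lemma hjP_pos (hc : IsHJDigits p q m c) {i : ℕ} (h0 : 1 ≤ i) (hi : i ≤ c.length + 1) :
    0 < hjP c i := by
  obtain ⟨j, rfl⟩ : ∃ j, i = j + 1 := ⟨i - 1, by omega⟩
  have := hjP_nonneg_lt hc j (by omega)
  omega

/-- monotonicity and positivity of `A Pᵢ - Qᵢ` -/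
lemma lin_pos_mono (hc : IsHJDigits p q m c) {A : ℤ} (hA : 1 ≤ A) :
    ∀ i, i ≤ c.length →
      1 ≤ A * hjP c i - hjQ c i ∧
        A * hjP c i - hjQ c i ≤ A * hjP c (i + 1) - hjQ c (i + 1) := by
  intro i
  induction i with
  | zero => intro _; simp [hjP, hjQ]; linarith
  | succ i ih =>
    intro hi
    obtain ⟨h1, h2⟩ := ih (by omega)
    have h3 := two_le_getD hc.1 (show i < c.length by omega)
    refine ⟨by omega, ?_⟩
    show _ ≤ A * hjP c (i + 2) - hjQ c (i + 2)
    simp only [hjP, hjQ]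
    nlinarith

lemma eE_pos_mono (hc : IsHJDigits p q m c) {i : ℕ} (hi : i ≤ c.length) :
    1 ≤ eE p q m c i ∧ eE p q m c i ≤ eE p q m c (i + 1) :=
  lin_pos_mono hc (by push_cast; omega) i hi

lemma lL_pos_mono (hc : IsHJDigits p q m c) {i : ℕ} (hi : i ≤ c.length) :
    1 ≤ lL p q m c i ∧ lL p q m c i ≤ lL p q m c (i + 1) :=
  lin_pos_mono hc (by push_cast; omega) i hi

lemma eE_pos (hc : IsHJDigits p q m c) {i : ℕ} (hi : i ≤ c.length + 1) : 1 ≤ eE p q m c i := by
  rcases Nat.lt_or_ge c.length i with h | h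
  · have h1 := eE_pos_mono hc (le_refl c.length)
    have : i = c.length + 1 := by omega
    subst this; omega
  · exact (eE_pos_mono hc h).1

lemma lL_pos (hc : IsHJDigits p q m c) {i : ℕ} (hi : i ≤ c.length + 1) : 1 ≤ lL p q m c i := by
  rcases Nat.lt_or_ge c.length i with h | h
  · have h1 := lL_pos_mono hc (le_refl c.length)
    have : i = c.length + 1 := by omega
    subst this; omega
  · exact (lL_pos_mono hc h).1

lemma eE_sub_lL (c : List ℤ) (i : ℕ) : eE p q m c i - lL p q m c i = (m : ℤ) * hjP c i := by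
  simp only [eE, lL]; push_cast; ring

section Setup

variable (hpq : p < q) (hcop : Nat.Coprime p q) (hm : 0 < m) (hnt : ¬ (q - p ∣ m))
  (hc : IsHJDigits p q m c)

include hpq hcop hm hnt

lemma tT_pos : 0 < tT p q m := by
  by_contra h
  have h0 : (tT p q m : ℤ) = 0 := by exact_mod_cast (by omega : tT p q m = 0)
  have h1 := coprime_tT_bB hpq hcop hm
  rw [h0, isCoprime_zero_left, Int.isUnit_iff] at h1
  have := two_le_bB hpq hnt
  omega

include hc

lemma digits_ne_nil : c ≠ [] := by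
  rintro rfl
  have h := hc.2
  simp only [HJFrac.hjVal] at h
  have h1 : (0 : ℚ) < bB p q m := by
    exact_mod_cast (show 0 < bB p q m by have := two_le_bB hpq hnt; omega)
  have h2 : (0 : ℚ) < tT p q m := by exact_mod_cast tT_pos hpq hcop hm hnt
  have := div_pos h1 h2
  linarith

lemma length_pos : 0 < c.length :=
  List.length_pos_of_ne_nil (digits_ne_nil hpq hcop hm hnt hc)

lemma nu_val : ∀ i, i < c.length → 0 < nu p q m c (i + 1) ∧
    HJFrac.hjVal (c.drop i) = (nu p q m c i : ℚ) / (nu p q m c (i + 1) : ℚ) := by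
  intro i
  induction i with
  | zero =>
    intro _
    refine ⟨by rw [nu_one]; exact_mod_cast tT_pos hpq hcop hm hnt, ?_⟩
    rw [List.drop_zero, hc.2, nu_zero, nu_one]; norm_num
  | succ i ih =>
    intro hi
    obtain ⟨h1, h2⟩ := ih (by omega)
    rw [List.drop_eq_getElem_cons (show i < c.length by omega), HJFrac.hjVal,
      List.getElem_eq_getD (fallback := (0 : ℤ))] at h2
    have hne : c.drop (i + 1) ≠ [] := by
      intro h; rw [List.drop_eq_nil_iff] at h; omega
    have hv := one_lt_hjVal _ hne (fun x hx => hc.1 x (List.mem_of_mem_drop hx))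
    set v := HJFrac.hjVal (c.drop (i + 1))
    have h1' : (0 : ℚ) < nu p q m c (i + 1) := by exact_mod_cast h1
    have h3 : v⁻¹ = (nu p q m c (i + 2) : ℚ) / (nu p q m c (i + 1) : ℚ) := by
      rw [nu_add_two]; push_cast
      field_simp at h2 ⊢
      linarith
    have h4 : (0 : ℚ) < v⁻¹ := inv_pos.mpr (by linarith)
    rw [h3] at h4
    have h5 : (0 : ℚ) < nu p q m c (i + 2) := by
      have := mul_pos h4 h1'
      rwa [div_mul_cancel₀ _ h1'.ne'] at this
    refine ⟨by exact_mod_cast h5, ?_⟩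
    rw [← inv_inv v, h3, inv_div]

lemma nu_lt_succ {i : ℕ} (hi : i < c.length) : nu p q m c (i + 1) < nu p q m c i := by
  obtain ⟨h1, h2⟩ := nu_val hpq hcop hm hnt hc i hi
  have hne : c.drop i ≠ [] := by
    intro h; rw [List.drop_eq_nil_iff] at h; omega
  have hv := one_lt_hjVal _ hne (fun x hx => hc.1 x (List.mem_of_mem_drop hx))
  rw [h2, one_lt_div (by exact_mod_cast h1)] at hv
  exact_mod_cast hv

lemma nu_last_zero : nu p q m c (c.length + 1) = 0 := by
  have hl := length_pos hpq hcop hm hnt hc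
  obtain ⟨r, hr⟩ : ∃ r, c.length = r + 1 := ⟨c.length - 1, by omega⟩
  obtain ⟨h1, h2⟩ := nu_val hpq hcop hm hnt hc r (by omega)
  rw [List.drop_eq_getElem_cons (show r < c.length by omega), HJFrac.hjVal,
    List.getElem_eq_getD (fallback := (0 : ℤ)),
    List.drop_of_length_le (show c.length ≤ r + 1 by omega)] at h2
  simp only [HJFrac.hjVal, inv_zero, sub_zero] at h2
  rw [eq_div_iff (by exact_mod_cast h1.ne')] at h2
  have h3 : c.getD r 0 * nu p q m c (r + 1) = nu p q m c r := by exact_mod_cast h2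
  rw [hr, nu_add_two]
  omega

lemma nu_pos {i : ℕ} (hi : i ≤ c.length) : 0 < nu p q m c i := by
  rcases i with _ | i
  · rw [nu_zero]; have := two_le_bB hpq hnt; omega
  · exact (nu_val hpq hcop hm hnt hc i (by omega)).1

lemma nu_lt {i : ℕ} (hi : i ≤ c.length) : nu p q m c (i + 1) < nu p q m c i := by
  rcases Nat.lt_or_ge i c.length with h | h
  · exact nu_lt_succ hpq hcop hm hnt hc h
  · have : i = c.length := by omega
    subst this
    rw [nu_last_zero hpq hcop hm hnt hc]
    exact nu_pos hpq hcop hm hnt hc le_rfl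

lemma nu_lt_bB {i : ℕ} (h1 : 1 ≤ i) (hi : i ≤ c.length + 1) : nu p q m c i < bB p q m := by
  induction i with
  | zero => omega
  | succ i ih =>
    have := nu_lt hpq hcop hm hnt hc (show i ≤ c.length by omega)
    rcases i with _ | i
    · rw [← nu_zero (p := p) (q := q) (m := m) c]; exact this
    · have := ih (by omega) (by omega); omega

lemma nu_last_one : nu p q m c c.length = 1 := by
  have h0 := nu_last_zero hpq hcop hm hnt hc
  have hd := hjP_hjQ_det c c.length
  have hP := hjP_pos hc (show 1 ≤ c.length + 1 by omega) le_rfl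
  have hn := nu_pos hpq hcop hm hnt hc (le_refl c.length)
  have key : nu p q m c c.length * hjP c (c.length + 1) = bB p q m := by
    have : nu p q m c c.length * hjP c (c.length + 1) -
        nu p q m c (c.length + 1) * hjP c c.length = bB p q m := by
      simp only [nu]; linear_combination -(bB p q m : ℤ) * hd
    rw [h0] at this; linarith
  have hdvd : (bB p q m : ℤ) ∣ (tT p q m : ℤ) * hjP c (c.length + 1) :=
    ⟨hjQ c (c.length + 1), by simp only [nu] at h0; linarith⟩
  have hdvd' := (coprime_tT_bB hpq hcop hm).symm.dvd_of_dvd_mul_left hdvd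
  have hle := Int.le_of_dvd hP hdvd'
  nlinarith

omit hpq hcop hm hnt hc in
lemma exists_coords (c : List ℤ) (j : ℕ) (x z : ℤ) :
    ∃ u v : ℤ, u * hjP c j + v * hjP c (j + 1) = x ∧ u * hjQ c j + v * hjQ c (j + 1) = z := by
  have hd := hjP_hjQ_det c j
  refine ⟨x * hjQ c (j + 1) - z * hjP c (j + 1), z * hjP c j - x * hjQ c j, ?_, ?_⟩
  · linear_combination (-x) * hd
  · linear_combination (-z) * hd

/-- the gap: for `0 < x < P_{j+1}`, no value `t x - b y` lies in `(ν_{j+1} - ν_j, ν_j)` -/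
lemma gap {j : ℕ} (hj : j < c.length) {x : ℤ} (hx0 : 0 < x) (hx : x < hjP c (j + 1)) (y : ℤ) :
    nu p q m c j ≤ (tT p q m : ℤ) * x - (bB p q m : ℤ) * y ∨
      (tT p q m : ℤ) * x - (bB p q m : ℤ) * y ≤ nu p q m c (j + 1) - nu p q m c j := by
  obtain ⟨u, v, hux, huy⟩ := exists_coords c j x y
  obtain ⟨hP0, hP1⟩ := hjP_nonneg_lt hc j hj.le
  have hn1 := nu_pos hpq hcop hm hnt hc (show j + 1 ≤ c.length by omega)
  have hn2 := nu_lt hpq hcop hm hnt hc hj.le
  have hρ : (tT p q m : ℤ) * x - (bB p q m : ℤ) * y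
      = u * nu p q m c j + v * nu p q m c (j + 1) := by
    rw [← hux, ← huy]; simp only [nu]; ring
  rw [hρ]
  rcases lt_trichotomy u 0 with hu | hu | hu
  · have hv1 : 1 ≤ v := by
      by_contra h
      have h' : v ≤ 0 := by omega
      nlinarith
    have hv2 : v ≤ -u := by
      by_contra h
      have h' : 1 - u ≤ v := by omega
      nlinarith
    right; nlinarith
  · subst hu
    simp only [zero_mul, zero_add] at hux
    rcases le_or_gt v 0 with h | h <;> nlinarith
  · have hv1 : v ≤ 0 := by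
      by_contra h
      have h' : 1 ≤ v := by omega
      nlinarith
    have hv2 : 1 - u ≤ v := by
      by_contra h
      have h' : v ≤ -u := by omega
      nlinarith
    left; nlinarith

lemma nN_pos {i : ℕ} (hi : i ≤ c.length) : 0 < nN p q m c i := by
  rw [nN_eq hpq]
  exact mul_pos (by exact_mod_cast gcdK_pos hm) (nu_pos hpq hcop hm hnt hc hi)

/-- the minimality lemma -/
lemma small_or_big {i : ℕ} (hi : 1 ≤ i) (hir : i ≤ c.length) {d0 E L x : ℤ} (hd0 : 0 ≤ d0)
    (hE : 0 ≤ E) (hL : 0 ≤ L) (hEL : E - L = (m : ℤ) * x)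
    (h : d0 - (p : ℤ) * E + (q : ℤ) * L = nN p q m c i) :
    nN p q m c i ≤ d0 ∨ (eE p q m c i ≤ E ∧ lL p q m c i ≤ L) := by
  by_cases hd : nN p q m c i ≤ d0
  · exact Or.inl hd
  right
  set n := nN p q m c i - d0 with hn_def
  have hn0 : 0 < n := by omega
  have hg : (0 : ℤ) < gcdK p q m := by exact_mod_cast gcdK_pos hm
  have hgb := gcdK_mul_bB_int (m := m) hpq
  have hnlt : nN p q m c i < (q : ℤ) - p := by
    rw [nN_eq hpq, ← hgb]
    exact mul_lt_mul_of_pos_left (nu_lt_bB hpq hcop hm hnt hc hi (by omega)) hg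
  have hm' : (0 : ℤ) < m := by exact_mod_cast hm
  have hp' : (0 : ℤ) ≤ p := by positivity
  have hx : 0 < x := by
    by_contra hx
    have hx' : x ≤ 0 := by omega
    have hE' : E = L + (m : ℤ) * x := by linarith
    subst hE'
    have hmx : (m : ℤ) * x ≤ 0 := by nlinarith
    have : L < 1 := by nlinarith
    have hL0 : L = 0 := by omega
    subst hL0
    have : (m : ℤ) * x = 0 := by omega
    have : n = 0 := by rw [hn_def]; nlinarith
    omega
  obtain ⟨j, rfl⟩ : ∃ j, i = j + 1 := ⟨i - 1, by omega⟩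
  have hpm := pm_eq (m := m) hpq
  have hn' : n = (gcdK p q m : ℤ) * ((tT p q m : ℤ) * x -
      (bB p q m : ℤ) * (((alpha p q m + 1 : ℕ) : ℤ) * x - L)) := by
    rw [hn_def]
    linear_combination (-1 : ℤ) * h + (-(p : ℤ)) * hEL + (-L) * hgb + (-x) * hpm
  have hP : hjP c (j + 1) ≤ x := by
    by_contra hxP
    have hn2 := nu_lt hpq hcop hm hnt hc (show j ≤ c.length by omega)
    have hle : n ≤ (gcdK p q m : ℤ) * nu p q m c (j + 1) := by
      rw [← nN_eq hpq]; omega
    rcases gap hpq hcop hm hnt hc (show j < c.length by omega) hx (by omega)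
      (((alpha p q m + 1 : ℕ) : ℤ) * x - L) with hh | hh <;> nlinarith
  have hlb : lL p q m c (j + 1) ≤ L := by
    by_contra hlt
    have hlt' : L ≤ lL p q m c (j + 1) - 1 := by omega
    have hel := eE_sub_lL (p := p) (q := q) (m := m) c (j + 1)
    have hnN : nN p q m c (j + 1) =
        -(p : ℤ) * eE p q m c (j + 1) + (q : ℤ) * lL p q m c (j + 1) := rfl
    have hqp : (0 : ℤ) < (q : ℤ) - p := by omega
    nlinarith [mul_nonneg (mul_nonneg hp' hm'.le) (sub_nonneg.mpr hP),
      mul_le_mul_of_nonneg_left hlt' hqp.le]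
  refine ⟨?_, hlb⟩
  have hel := eE_sub_lL (p := p) (q := q) (m := m) c (j + 1)
  nlinarith

/-- differences of exponents of equal weight -/
lemma diff_dichotomy {i : ℕ} (hi : 1 ≤ i) (hir : i ≤ c.length) {a0 a1 a2 x : ℤ}
    (hx : a1 - a2 = (m : ℤ) * x) (h : a0 - (p : ℤ) * a1 + (q : ℤ) * a2 = 0) (h0 : 0 ≤ a0)
    (h0' : a0 < nN p q m c (i - 1)) :
    (0 ≤ a1 ∧ 0 ≤ a2) ∨ (a1 ≤ -eE p q m c i ∧ a2 ≤ -lL p q m c i) := by
  obtain ⟨j, rfl⟩ : ∃ j, i = j + 1 := ⟨i - 1, by omega⟩
  simp only [Nat.add_sub_cancel] at h0'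
  obtain ⟨u, v, hux, huz⟩ := exists_coords c j x (((alpha p q m + 1 : ℕ) : ℤ) * x - a2)
  have hgb := gcdK_mul_bB_int (m := m) hpq
  have hpm := pm_eq (m := m) hpq
  have ha0 : a0 = -(gcdK p q m : ℤ) * (u * nu p q m c j + v * nu p q m c (j + 1)) := by
    have : (tT p q m : ℤ) * x - (bB p q m : ℤ) * (((alpha p q m + 1 : ℕ) : ℤ) * x - a2)
        = u * nu p q m c j + v * nu p q m c (j + 1) := by
      rw [← huz, ← hux]; simp only [nu]; ring
    rw [← this]
    linear_combination h + (p : ℤ) * hx + a2 * hgb + x * hpm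
  have ha1 : a1 = u * eE p q m c j + v * eE p q m c (j + 1) := by
    simp only [eE]
    push_cast at huz ⊢
    linear_combination hx - ((alpha p q m : ℤ) + 1 + m) * hux + huz
  have ha2 : a2 = u * lL p q m c j + v * lL p q m c (j + 1) := by
    simp only [lL]
    push_cast at huz ⊢
    linear_combination (-((alpha p q m : ℤ) + 1)) * hux + huz
  rw [nN_eq hpq] at h0'
  have hg : (0 : ℤ) < gcdK p q m := by exact_mod_cast gcdK_pos hm
  have hA0 : 0 ≤ -(u * nu p q m c j + v * nu p q m c (j + 1)) := by nlinarith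
  have hA1 : -(u * nu p q m c j + v * nu p q m c (j + 1)) < nu p q m c j := by nlinarith
  have hn1 := nu_pos hpq hcop hm hnt hc (show j + 1 ≤ c.length by omega)
  have hn2 := nu_lt hpq hcop hm hnt hc (show j ≤ c.length by omega)
  have he := eE_pos_mono (p := p) (q := q) (m := m) hc (show j ≤ c.length by omega)
  have hl := lL_pos_mono (p := p) (q := q) (m := m) hc (show j ≤ c.length by omega)
  rcases lt_trichotomy v 0 with hv | hv | hv
  · right
    have hu0 : 0 ≤ u := by
      by_contra hh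
      have hh' : u ≤ -1 := by omega
      nlinarith
    have hu1 : u ≤ -v - 1 := by
      by_contra hh
      have hh' : -v ≤ u := by omega
      nlinarith
    constructor <;> nlinarith
  · left
    subst hv
    have hu : u = 0 := by
      rcases lt_trichotomy u 0 with h' | h' | h'
      · have h'' : u ≤ -1 := by omega
        nlinarith
      · exact h'
      · have h'' : 1 ≤ u := by omega
        nlinarith
    subst hu
    simp [ha1, ha2]
  · left
    have hu1 : -v ≤ u := by
      by_contra hh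
      have hh' : u ≤ -v - 1 := by omega
      nlinarith
    have hu0 : u ≤ 0 := by
      by_contra hh
      have hh' : 1 ≤ u := by omega
      nlinarith
    constructor <;> nlinarith

end Setup

end H25InvHilb
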