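import Mathlib
import Groth.Prelude.Def_W4c2invhilbsl2HJ
import Groth.Agent.H25InvHilb.Num

/-!
Monomial bookkeeping for the weight pieces of `W4c2invhilbsl2`.
-/

namespace H25InvHilb

open MvPolynomial W4c2invhilbsl2

section General

variable {σ : Type*} {k : Type*} {G : Type*}

/-- a weighted homogeneous polynomial all of whose monomials are divisible by some `g j`
is a combination of the `g j` with weighted homogeneous coefficients -/
theorem exists_decomp' [CommRing k] [AddCommGroup G] (w : σ → G) (ν : G)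
    {ι : Type*} [Fintype ι] [DecidableEq ι] (g : ι → σ →₀ ℕ) (μ : ι → G)
    (hg : ∀ j, μ j + Finsupp.weight w (g j) = ν) (f : MvPolynomial σ k)
    (hf : f ∈ weightedHomogeneousSubmodule k w ν)
    (hdiv : ∀ d ∈ f.support, ∃ j, g j ≤ d) :
    ∃ a : ι → MvPolynomial σ k, (∀ j, a j ∈ weightedHomogeneousSubmodule k w (μ j)) ∧
      f = ∑ j, a j * monomial (g j) 1 := by
  classical
  choose J hJ using hdiv
  refine ⟨fun j => ∑ d ∈ f.support.attach.filter (fun d => J d.1 d.2 = j),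
    monomial (d.1 - g j) (coeff d.1 f), fun j => ?_, ?_⟩
  · refine Submodule.sum_mem _ fun d hd => ?_
    rw [mem_weightedHomogeneousSubmodule]
    apply isWeightedHomogeneous_monomial
    have hle : g j ≤ d.1 := (Finset.mem_filter.mp hd).2 ▸ hJ d.1 d.2
    have h1 : Finsupp.weight w d.1 = ν := hf (mem_support_iff.mp d.2)
    rw [← tsub_add_cancel_of_le hle, map_add, ← hg j] at h1
    exact add_right_cancel h1
  · conv_lhs => rw [f.as_sum, ← Finset.sum_attach]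
    rw [← Finset.sum_fiberwise f.support.attach (fun d => J d.1 d.2)]
    refine Finset.sum_congr rfl fun j _ => ?_
    rw [Finset.sum_mul]
    refine Finset.sum_congr rfl fun d hd => ?_
    have hle : g j ≤ d.1 := (Finset.mem_filter.mp hd).2 ▸ hJ d.1 d.2
    rw [monomial_mul, mul_one, tsub_add_cancel_of_le hle]

/-- the special case of `exists_decomp'` with weight zero coefficients -/
theorem exists_decomp [CommRing k] [AddCommGroup G] (w : σ → G) (ν : G)
    {ι : Type*} [Fintype ι] [DecidableEq ι] (g : ι → σ →₀ ℕ)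
    (hg : ∀ j, Finsupp.weight w (g j) = ν) (f : MvPolynomial σ k)
    (hf : f ∈ weightedHomogeneousSubmodule k w ν)
    (hdiv : ∀ d ∈ f.support, ∃ j, g j ≤ d) :
    ∃ a : ι → MvPolynomial σ k, (∀ j, a j ∈ weightedHomogeneousSubmodule k w 0) ∧
      f = ∑ j, a j * monomial (g j) 1 :=
  exists_decomp' w ν g (fun _ => 0) (fun j => by rw [zero_add, hg j]) f hf hdiv

/-- criterion for a weight piece of a quotient to have rank at most one -/
theorem rank_piece_le_one [Field k] {M : Type*} [AddCommMonoid M] (w : σ → M)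
    (I : Ideal (MvPolynomial σ k)) (ν : M)
    (h : ∀ d e : σ →₀ ℕ, Finsupp.weight w d = ν → Finsupp.weight w e = ν →
      Ideal.Quotient.mk I (monomial d 1) = 0 ∨ Ideal.Quotient.mk I (monomial e 1) = 0 ∨
      (∃ a : k, Ideal.Quotient.mk I (monomial d 1) = a • Ideal.Quotient.mk I (monomial e 1)) ∨
      (∃ a : k, Ideal.Quotient.mk I (monomial e 1) = a • Ideal.Quotient.mk I (monomial d 1))) :
    Module.rank k (piece k w I ν) ≤ 1 := by
  classical
  rw [rank_submodule_le_one_iff']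
  by_cases hall : ∀ d : σ →₀ ℕ, Finsupp.weight w d = ν →
      Ideal.Quotient.mk I (monomial d (1 : k)) = 0
  · refine ⟨0, ?_⟩
    rintro _ ⟨f, hf, rfl⟩
    have : (Ideal.Quotient.mkₐ k I).toLinearMap f = 0 := by
      conv_lhs => rw [f.as_sum, map_sum]
      refine Finset.sum_eq_zero fun d hd => ?_
      have he : monomial d (coeff d f) = coeff d f • monomial d (1 : k) := by
        rw [smul_monomial, smul_eq_mul, mul_one]
      rw [he, map_smul]
      have := hall d (hf (mem_support_iff.mp hd))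
      show coeff d f • Ideal.Quotient.mk I (monomial d (1 : k)) = 0
      rw [this, smul_zero]
    rw [this]
    exact Submodule.zero_mem _
  · push Not at hall
    obtain ⟨e, he, hne⟩ := hall
    refine ⟨Ideal.Quotient.mk I (monomial e (1 : k)), ?_⟩
    rintro _ ⟨f, hf, rfl⟩
    rw [f.as_sum, map_sum]
    refine Submodule.sum_mem _ fun d hd => ?_
    have hd' : monomial d (coeff d f) = coeff d f • monomial d (1 : k) := by
      rw [smul_monomial, smul_eq_mul, mul_one]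
    rw [hd', map_smul]
    refine Submodule.smul_mem _ _ ?_
    show Ideal.Quotient.mk I (monomial d (1 : k)) ∈ _
    rcases h d e (hf (mem_support_iff.mp hd)) he with h1 | h1 | ⟨a, ha⟩ | ⟨a, ha⟩
    · rw [h1]; exact Submodule.zero_mem _
    · exact absurd h1 hne
    · rw [ha]; exact Submodule.smul_mem _ _ (Submodule.mem_span_singleton_self _)
    · have ha0 : a ≠ 0 := fun h0 => hne (by rw [ha, h0, zero_smul])
      rw [Submodule.mem_span_singleton]
      exact ⟨a⁻¹, by rw [ha, smul_smul, inv_mul_cancel₀ ha0, one_smul]⟩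

end General

/-- exponent vectors in three variables -/
noncomputable def v3 (a b c : ℕ) : Fin 3 →₀ ℕ := Finsupp.equivFunOnFinite.symm ![a, b, c]

/-- exponent vectors in five variables -/
noncomputable def v5 (a b c d e : ℕ) : Fin 5 →₀ ℕ :=
  Finsupp.equivFunOnFinite.symm ![a, b, c, d, e]

@[simp] lemma v3_apply0 (a b c : ℕ) : v3 a b c 0 = a := by simp [v3]
@[simp] lemma v3_apply1 (a b c : ℕ) : v3 a b c 1 = b := by simp [v3]
@[simp] lemma v3_apply2 (a b c : ℕ) : v3 a b c 2 = c := by simp [v3]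
@[simp] lemma v5_apply0 (a b c d e : ℕ) : v5 a b c d e 0 = a := by simp [v5]
@[simp] lemma v5_apply1 (a b c d e : ℕ) : v5 a b c d e 1 = b := by simp [v5]
@[simp] lemma v5_apply2 (a b c d e : ℕ) : v5 a b c d e 2 = c := by simp [v5]
@[simp] lemma v5_apply3 (a b c d e : ℕ) : v5 a b c d e 3 = d := by simp [v5]
@[simp] lemma v5_apply4 (a b c d e : ℕ) : v5 a b c d e 4 = e := by simp [v5]

lemma v3_le {a b c : ℕ} {d : Fin 3 →₀ ℕ} (h0 : a ≤ d 0) (h1 : b ≤ d 1) (h2 : c ≤ d 2) :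
    v3 a b c ≤ d := by
  intro i; fin_cases i <;> simpa

lemma v5_le {a b c e f : ℕ} {d : Fin 5 →₀ ℕ} (h0 : a ≤ d 0) (h1 : b ≤ d 1) (h2 : c ≤ d 2)
    (h3 : e ≤ d 3) (h4 : f ≤ d 4) : v5 a b c e f ≤ d := by
  intro i; fin_cases i <;> simpa

lemma eq_v3 (d : Fin 3 →₀ ℕ) : d = v3 (d 0) (d 1) (d 2) := by
  ext i; fin_cases i <;> simp

lemma eq_v5 (d : Fin 5 →₀ ℕ) : d = v5 (d 0) (d 1) (d 2) (d 3) (d 4) := by
  ext i; fin_cases i <;> simp

lemma monomial_fin3 {k : Type*} [CommRing k] (d : Fin 3 →₀ ℕ) :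
    monomial d (1 : k) = X 0 ^ d 0 * X 1 ^ d 1 * X 2 ^ d 2 := by
  rw [monomial_eq, C_1, one_mul, Finsupp.prod_fintype _ _ (fun i => pow_zero _),
    Fin.prod_univ_three]

lemma monomial_fin5 {k : Type*} [CommRing k] (d : Fin 5 →₀ ℕ) :
    monomial d (1 : k) = X 0 ^ d 0 * X 1 ^ d 1 * X 2 ^ d 2 * X 3 ^ d 3 * X 4 ^ d 4 := by
  rw [monomial_eq, C_1, one_mul, Finsupp.prod_fintype _ _ (fun i => pow_zero _),
    Fin.prod_univ_five]

variable {p q m : ℕ}

lemma weight3 (d : Fin 3 →₀ ℕ) : Finsupp.weight (wt3 p q m) d =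
    ((d 0 : ℤ) - (p : ℤ) * d 1 + (q : ℤ) * d 2, (((d 2 : ℤ) - d 1 : ℤ) : ZMod m)) := by
  rw [Finsupp.weight_apply, Finsupp.sum_fintype d (fun i c => c • wt3 p q m i) (fun i => zero_nsmul _)]
  simp only [Fin.sum_univ_three, wt3]
  simp only [Matrix.cons_val_zero, Matrix.cons_val_one, Matrix.cons_val, Prod.smul_mk,
    Prod.mk_add_mk, smul_zero, nsmul_eq_mul, mul_one, mul_neg]
  refine Prod.ext ?_ ?_
  · simp; ring
  · simp; ring

lemma weight5 (d : Fin 5 →₀ ℕ) : Finsupp.weight (wt5 p q m) d =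
    ((d 0 : ℤ) - (p : ℤ) * (d 1 + d 2 : ℕ) + (q : ℤ) * (d 3 + d 4 : ℕ),
      ((((d 3 + d 4 : ℕ) : ℤ) - (d 1 + d 2 : ℕ) : ℤ) : ZMod m)) := by
  rw [Finsupp.weight_apply, Finsupp.sum_fintype d (fun i c => c • wt5 p q m i) (fun i => zero_nsmul _)]
  simp only [Fin.sum_univ_five, wt5]
  simp only [Matrix.cons_val_zero, Matrix.cons_val_one, Matrix.cons_val, Prod.smul_mk,
    Prod.mk_add_mk, smul_zero, nsmul_eq_mul, mul_one, mul_neg]
  refine Prod.ext ?_ ?_
  · simp; ring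
  · simp; ring

lemma weight3_eq_iff {d e : Fin 3 →₀ ℕ} :
    Finsupp.weight (wt3 p q m) d = Finsupp.weight (wt3 p q m) e ↔
      ((d 0 : ℤ) - (p : ℤ) * d 1 + (q : ℤ) * d 2 = (e 0 : ℤ) - (p : ℤ) * e 1 + (q : ℤ) * e 2 ∧
      ∃ x : ℤ, ((d 1 : ℤ) - e 1) - ((d 2 : ℤ) - e 2) = (m : ℤ) * x) := by
  rw [weight3, weight3, Prod.ext_iff]
  refine and_congr Iff.rfl ?_
  rw [ZMod.intCast_eq_intCast_iff_dvd_sub]
  constructor
  · rintro ⟨x, hx⟩; exact ⟨x, by linarith⟩
  · rintro ⟨x, hx⟩; exact ⟨x, by linarith⟩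

lemma weight3_eq_pair {d : Fin 3 →₀ ℕ} {n : ℤ} :
    Finsupp.weight (wt3 p q m) d = (n, (0 : ZMod m)) ↔
      ((d 0 : ℤ) - (p : ℤ) * d 1 + (q : ℤ) * d 2 = n ∧
      ∃ x : ℤ, (d 1 : ℤ) - d 2 = (m : ℤ) * x) := by
  rw [weight3, Prod.ext_iff]
  refine and_congr Iff.rfl ?_
  rw [ZMod.intCast_zmod_eq_zero_iff_dvd]
  constructor
  · rintro ⟨x, hx⟩; exact ⟨-x, by linarith⟩
  · rintro ⟨x, hx⟩; exact ⟨-x, by linarith⟩

lemma weight5_eq_iff {d e : Fin 5 →₀ ℕ} :
    Finsupp.weight (wt5 p q m) d = Finsupp.weight (wt5 p q m) e ↔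
      ((d 0 : ℤ) - (p : ℤ) * (d 1 + d 2 : ℕ) + (q : ℤ) * (d 3 + d 4 : ℕ) =
          (e 0 : ℤ) - (p : ℤ) * (e 1 + e 2 : ℕ) + (q : ℤ) * (e 3 + e 4 : ℕ) ∧
      ∃ x : ℤ, (((d 1 + d 2 : ℕ) : ℤ) - (e 1 + e 2 : ℕ)) -
          (((d 3 + d 4 : ℕ) : ℤ) - (e 3 + e 4 : ℕ)) = (m : ℤ) * x) := by
  rw [weight5, weight5, Prod.ext_iff]
  refine and_congr Iff.rfl ?_
  rw [ZMod.intCast_eq_intCast_iff_dvd_sub]
  constructor
  · rintro ⟨x, hx⟩; exact ⟨x, by linarith⟩
  · rintro ⟨x, hx⟩; exact ⟨x, by linarith⟩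

lemma weight5_eq_pair {d : Fin 5 →₀ ℕ} {n : ℤ} :
    Finsupp.weight (wt5 p q m) d = (n, (0 : ZMod m)) ↔
      ((d 0 : ℤ) - (p : ℤ) * (d 1 + d 2 : ℕ) + (q : ℤ) * (d 3 + d 4 : ℕ) = n ∧
      ∃ x : ℤ, ((d 1 + d 2 : ℕ) : ℤ) - (d 3 + d 4 : ℕ) = (m : ℤ) * x) := by
  rw [weight5, Prod.ext_iff]
  refine and_congr Iff.rfl ?_
  rw [ZMod.intCast_zmod_eq_zero_iff_dvd]
  constructor
  · rintro ⟨x, hx⟩; exact ⟨-x, by linarith⟩
  · rintro ⟨x, hx⟩; exact ⟨-x, by linarith⟩

section Staircase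

variable {k : Type*} [Field k] {c : List ℤ} (hpq : p < q) (hcop : Nat.Coprime p q) (hm : 0 < m)
  (hnt : ¬ (q - p ∣ m)) (hc : IsHJDigits p q m c) {i : ℕ} (hi : 1 ≤ i) (hir : i ≤ c.length)

include hpq hcop hm hnt hc hi hir

lemma mk_zero_of_weight_zero_le (s : k) {d κ : Fin 3 →₀ ℕ} (hκ : κ ≠ 0)
    (hw : Finsupp.weight (wt3 p q m) κ = 0) (hle : κ ≤ d) :
    Ideal.Quotient.mk (idealL k p q m c i s) (monomial d (1 : k)) = 0 := by
  rw [Ideal.Quotient.eq_zero_iff_mem, ← tsub_add_cancel_of_le hle,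
    show monomial (d - κ + κ) (1 : k) = monomial (d - κ) 1 * monomial κ 1 by
      rw [monomial_mul, one_mul]]
  exact Ideal.mul_mem_left _ _ (Ideal.mem_sup_right (Ideal.subset_span ⟨κ, hκ, hw, rfl⟩))

lemma mk_zero_of_big (s : k) {d : Fin 3 →₀ ℕ} (hd : (nN p q m c (i - 1)).toNat ≤ d 0) :
    Ideal.Quotient.mk (idealL k p q m c i s) (monomial d (1 : k)) = 0 := by
  rw [Ideal.Quotient.eq_zero_iff_mem, monomial_fin3]
  refine Ideal.mem_sup_left (Ideal.mul_mem_right _ _ (Ideal.mul_mem_right _ _ ?_))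
  exact Ideal.pow_mem_of_pow_mem _ (Ideal.subset_span (Set.mem_insert _ _)) hd

/-- reduced exponent vectors of equal weight coincide -/
lemma reduced_unique {d e : Fin 3 →₀ ℕ}
    (hw : Finsupp.weight (wt3 p q m) d = Finsupp.weight (wt3 p q m) e)
    (hd : (d 0 : ℤ) < nN p q m c (i - 1) ∧ ¬ (eE p q m c i ≤ d 1 ∧ lL p q m c i ≤ d 2) ∧
      ∀ κ : Fin 3 →₀ ℕ, κ ≠ 0 → Finsupp.weight (wt3 p q m) κ = 0 → ¬ κ ≤ d)
    (he : (e 0 : ℤ) < nN p q m c (i - 1) ∧ ¬ (eE p q m c i ≤ e 1 ∧ lL p q m c i ≤ e 2) ∧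
      ∀ κ : Fin 3 →₀ ℕ, κ ≠ 0 → Finsupp.weight (wt3 p q m) κ = 0 → ¬ κ ≤ e) :
    d = e := by
  wlog h0 : e 0 ≤ d 0 generalizing d e
  · exact (this hw.symm he hd (by omega)).symm
  obtain ⟨h1, x, hx⟩ := weight3_eq_iff.mp hw
  have hdich := diff_dichotomy hpq hcop hm hnt hc hi hir
    (a0 := (d 0 : ℤ) - e 0) (a1 := (d 1 : ℤ) - e 1) (a2 := (d 2 : ℤ) - e 2) hx
    (by linarith) (by omega) (by have := hd.1; omega)
  rcases hdich with ⟨g1, g2⟩ | ⟨g1, g2⟩
  · by_contra hne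
    have hle : e ≤ d := by
      intro j; fin_cases j
      · exact h0
      · show e 1 ≤ d 1; omega
      · show e 2 ≤ d 2; omega
    refine hd.2.2 (d - e) ?_ ?_ tsub_le_self
    · intro h
      exact hne (le_antisymm (tsub_eq_zero_iff_le.mp h) hle)
    · have := congrArg (Finsupp.weight (wt3 p q m)) (tsub_add_cancel_of_le hle)
      rw [map_add, hw] at this
      simpa using this
  · exfalso
    apply he.2.1
    constructor <;> omega

/-- in the quotient by `idealL` every monomial is zero or equal to a reduced one -/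
lemma exists_reduced (s : k) (hs : s = 0 ∨ s = 1) (N : ℕ) : ∀ d : Fin 3 →₀ ℕ, d 1 ≤ N →
    Ideal.Quotient.mk (idealL k p q m c i s) (monomial d (1 : k)) = 0 ∨
    ∃ d' : Fin 3 →₀ ℕ, Finsupp.weight (wt3 p q m) d' = Finsupp.weight (wt3 p q m) d ∧
      ((d' 0 : ℤ) < nN p q m c (i - 1) ∧ ¬ (eE p q m c i ≤ d' 1 ∧ lL p q m c i ≤ d' 2) ∧
        ∀ κ : Fin 3 →₀ ℕ, κ ≠ 0 → Finsupp.weight (wt3 p q m) κ = 0 → ¬ κ ≤ d') ∧
      Ideal.Quotient.mk (idealL k p q m c i s) (monomial d (1 : k)) =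
        Ideal.Quotient.mk (idealL k p q m c i s) (monomial d' (1 : k)) := by
  induction N using Nat.strong_induction_on with
  | _ N ih =>
    intro d hdN
    by_cases hbig : (d 0 : ℤ) < nN p q m c (i - 1)
    swap
    · exact Or.inl (mk_zero_of_big hpq hcop hm hnt hc hi hir s (by omega))
    by_cases hK : ∃ κ : Fin 3 →₀ ℕ, κ ≠ 0 ∧ Finsupp.weight (wt3 p q m) κ = 0 ∧ κ ≤ d
    · obtain ⟨κ, h1, h2, h3⟩ := hK
      exact Or.inl (mk_zero_of_weight_zero_le hpq hcop hm hnt hc hi hir s h1 h2 h3)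
    push Not at hK
    by_cases hred : eE p q m c i ≤ d 1 ∧ lL p q m c i ≤ d 2
    swap
    · exact Or.inr ⟨d, rfl, ⟨hbig, hred, hK⟩, rfl⟩
    obtain ⟨h1, h2⟩ := hred
    have he := eE_pos (p := p) (q := q) (m := m) hc (show i ≤ c.length + 1 by omega)
    have hl := lL_pos (p := p) (q := q) (m := m) hc (show i ≤ c.length + 1 by omega)
    have hn := nN_pos hpq hcop hm hnt hc (show i ≤ c.length from hir)
    obtain ⟨E, hE⟩ : ∃ E : ℕ, eE p q m c i = E := ⟨(eE p q m c i).toNat, by omega⟩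
    obtain ⟨L, hL⟩ : ∃ L : ℕ, lL p q m c i = L := ⟨(lL p q m c i).toNat, by omega⟩
    obtain ⟨N', hN'⟩ : ∃ N' : ℕ, nN p q m c i = N' := ⟨(nN p q m c i).toNat, by omega⟩
    obtain ⟨r1, hr1⟩ : ∃ r1, d 1 = E + r1 := ⟨d 1 - E, by omega⟩
    obtain ⟨r2, hr2⟩ : ∃ r2, d 2 = L + r2 := ⟨d 2 - L, by omega⟩
    have hgen : C s * X 0 ^ N' - X 1 ^ E * X 2 ^ L ∈ idealL k p q m c i s := by
      refine Ideal.mem_sup_left (Ideal.subset_span (Set.mem_insert_of_mem _ ?_))
      simp [hE, hL, hN']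
    have key : Ideal.Quotient.mk (idealL k p q m c i s) (monomial d (1 : k)) =
        Ideal.Quotient.mk (idealL k p q m c i s)
          (C s * monomial (v3 (d 0 + N') r1 r2) (1 : k)) := by
      rw [Ideal.Quotient.eq, monomial_fin3, monomial_fin3, hr1, hr2, v3_apply0, v3_apply1,
        v3_apply2]
      have := Ideal.mul_mem_left _ (-(X 0 ^ d 0 * X 1 ^ r1 * X 2 ^ r2)) hgen
      convert this using 1
      ring
    rcases hs with hs | hs
    · left
      rw [key, hs, C_0, zero_mul, map_zero]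
    · subst hs
      have hlt : r1 < N := by omega
      rw [C_1, one_mul] at key
      have hwt : Finsupp.weight (wt3 p q m) (v3 (d 0 + N') r1 r2) =
          Finsupp.weight (wt3 p q m) d := by
        refine weight3_eq_iff.mpr ⟨?_, ⟨-hjP c i, ?_⟩⟩
        · have : nN p q m c i = -(p : ℤ) * eE p q m c i + (q : ℤ) * lL p q m c i := rfl
          rw [hE, hL, hN'] at this
          simp [hr1, hr2]
          linarith
        · have := eE_sub_lL (p := p) (q := q) (m := m) c i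
          rw [hE, hL] at this
          simp [hr1, hr2]
          linarith
      rcases ih r1 hlt (v3 (d 0 + N') r1 r2) (by simp) with h | ⟨d', hw', hred', heq⟩
      · exact Or.inl (key.trans h)
      · exact Or.inr ⟨d', hw'.trans hwt, hred', key.trans heq⟩

theorem rank_piece_idealL_le_one (s : k) (hs : s = 0 ∨ s = 1) (ν : ℤ × ZMod m) :
    Module.rank k (piece k (wt3 p q m) (idealL k p q m c i s) ν) ≤ 1 := by
  refine rank_piece_le_one _ _ _ fun d e hd he => ?_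
  rcases exists_reduced hpq hcop hm hnt hc hi hir s hs (d 1) d le_rfl with h | ⟨d', h1, h2, h3⟩
  · exact Or.inl h
  rcases exists_reduced hpq hcop hm hnt hc hi hir s hs (e 1) e le_rfl with h | ⟨e', g1, g2, g3⟩
  · exact Or.inr (Or.inl h)
  have : d' = e' :=
    reduced_unique hpq hcop hm hnt hc hi hir (by rw [h1, g1, hd, he]) h2 g2
  exact Or.inr (Or.inr (Or.inl ⟨1, by rw [one_smul, h3, g3, this]⟩))

end Staircase

end H25InvHilb
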